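import Mathlib
import Cfsg.Prelude.Def_Characters
import Cfsg.Agent.Lib.H10.BKFIB

/-!
# S4640 piece 7 (FIB), exact signature (helper28), a wrapper of helper10's `H10.BK.card_fibre`
-/

set_option autoImplicit false

namespace Cfsg.Agent.Lib.H28.KK

universe u

variable {G : Type u} [Group G] [Fintype G]

/-- (FIB) the fibre of restriction over `χ₀|_N` has `|G : N|` elements. -/
theorem card_extensions (N : Subgroup G) [N.Normal] [Fintype N]
    (hab : ∀ a b : G, a * b * a⁻¹ * b⁻¹ ∈ N) (χ₀ : Cfsg.IrrCharacter G)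
    (hirr : Cfsg.IsIrrCharacter N (fun n : N => (χ₀ : G → ℂ) n))
    (hno : ∀ β : G →* ℂˣ, (∀ n ∈ N, β n = 1) →
      (∀ g, (χ₀ : G → ℂ) g * ((β g : ℂˣ) : ℂ) = (χ₀ : G → ℂ) g) → β = 1) :
    Nat.card {χ : Cfsg.IrrCharacter G // ∀ n : N, (χ : G → ℂ) n = (χ₀ : G → ℂ) n} = N.index := by
  have h := Cfsg.Agent.Lib.H10.BK.card_fibre N hab (Set.univ : Set (Cfsg.IrrCharacter G))
    (⟨fun n : N => (χ₀ : G → ℂ) n, hirr⟩ : Cfsg.IrrCharacter N) χ₀ (fun _ => rfl)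
    (fun _ _ => Set.mem_univ _) hno
  rw [← h]
  refine Nat.card_congr ⟨fun x => ⟨x.1, Set.mem_univ _, x.2⟩, fun x => ⟨x.1, x.2.2⟩, ?_, ?_⟩
  · intro x; rfl
  · intro x; rfl

end Cfsg.Agent.Lib.H28.KK
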